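import Cfsg.Agent.H24.Q5.Mat

/-!
# S5211, block q = 5, M6 (helper473): orders of the explicit matrix groups
-/

set_option autoImplicit false

namespace Cfsg.Agent.H473.Q5

open Matrix Cfsg.Agent.H24.Q5

/-! ### vectors coded by numbers `< 625` -/

/-- the vector of a code -/
def dec (c : ℕ) : Fin 4 → ZMod 5 := ![(c : ZMod 5), ((c / 5 : ℕ) : ZMod 5), ((c / 25 : ℕ) : ZMod 5), ((c / 125 : ℕ) : ZMod 5)]

theorem dec_inj {c d : ℕ} (hc : c < 625) (hd : d < 625) (h : dec c = dec d) : c = d := by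
  have h0 := congrFun h 0
  have h1 := congrFun h 1
  have h2 := congrFun h 2
  have h3 := congrFun h 3
  simp only [dec, Matrix.cons_val] at h0 h1 h2 h3
  rw [ZMod.natCast_eq_natCast_iff'] at h0 h1 h2 h3
  omega

/-- matrix times vector on codes -/
def stp (a00 a01 a02 a03 a10 a11 a12 a13 a20 a21 a22 a23 a30 a31 a32 a33 : ℕ) (n : ℕ) : ℕ :=
  (a00 * (n % 5) + a01 * (n / 5 % 5) + a02 * (n / 25 % 5) + a03 * (n / 125 % 5)) % 5 +
  5 * ((a10 * (n % 5) + a11 * (n / 5 % 5) + a12 * (n / 25 % 5) + a13 * (n / 125 % 5)) % 5) +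
  25 * ((a20 * (n % 5) + a21 * (n / 5 % 5) + a22 * (n / 25 % 5) + a23 * (n / 125 % 5)) % 5) +
  125 * ((a30 * (n % 5) + a31 * (n / 5 % 5) + a32 * (n / 25 % 5) + a33 * (n / 125 % 5)) % 5)

theorem dec_stp (a00 a01 a02 a03 a10 a11 a12 a13 a20 a21 a22 a23 a30 a31 a32 a33 : ℕ) (n : ℕ) :
    dec (stp a00 a01 a02 a03 a10 a11 a12 a13 a20 a21 a22 a23 a30 a31 a32 a33 n) =
      (!![(a00 : ZMod 5), a01, a02, a03; a10, a11, a12, a13; a20, a21, a22, a23; a30, a31, a32, a33] : M5) *ᵥ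
        dec n := by
  have key : ∀ x y z w : ℕ, dec (x % 5 + 5 * (y % 5) + 25 * (z % 5) + 125 * (w % 5)) =
      ![(x : ZMod 5), (y : ZMod 5), (z : ZMod 5), (w : ZMod 5)] := by
    intro x y z w
    have h0 : ((x % 5 + 5 * (y % 5) + 25 * (z % 5) + 125 * (w % 5) : ℕ) : ZMod 5) = (x : ZMod 5) := by
      rw [ZMod.natCast_eq_natCast_iff']
      omega
    have h1 : (((x % 5 + 5 * (y % 5) + 25 * (z % 5) + 125 * (w % 5)) / 5 : ℕ) : ZMod 5) = (y : ZMod 5) := by
      rw [ZMod.natCast_eq_natCast_iff']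
      omega
    have h2 : (((x % 5 + 5 * (y % 5) + 25 * (z % 5) + 125 * (w % 5)) / 25 : ℕ) : ZMod 5) = (z : ZMod 5) := by
      rw [ZMod.natCast_eq_natCast_iff']
      omega
    have h3 : (((x % 5 + 5 * (y % 5) + 25 * (z % 5) + 125 * (w % 5)) / 125 : ℕ) : ZMod 5) = (w : ZMod 5) := by
      rw [ZMod.natCast_eq_natCast_iff']
      omega
    unfold dec
    rw [h0, h1, h2, h3]
  unfold stp
  rw [key]
  funext i
  fin_cases i <;> simp [dec, Matrix.mulVec, dotProduct, Fin.sum_univ_four]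

/-! ### search -/

/-- put a code on the stack if it is new -/
def push (a : ℕ) (s : List ℕ × ℕ) : List ℕ × ℕ :=
  bif Nat.testBit s.2 a then s else (a :: s.1, s.2 ||| (1 <<< a))

/-- depth first search -/
def dfs (f g : ℕ → ℕ) : ℕ → List ℕ → ℕ → ℕ
  | 0, _, m => m
  | _ + 1, [], m => m
  | n + 1, c :: l, m =>
    let s := push (g c) (push (f c) (l, m))
    dfs f g n s.1 s.2

theorem push_inv {Q : ℕ → Prop} {a : ℕ} (ha : Q a) {s : List ℕ × ℕ} (h1 : ∀ c ∈ s.1, Q c)
    (h2 : ∀ c, Nat.testBit s.2 c = true → Q c) :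
    (∀ c ∈ (push a s).1, Q c) ∧ (∀ c, Nat.testBit (push a s).2 c = true → Q c) := by
  unfold push
  cases h : Nat.testBit s.2 a with
  | true => exact ⟨h1, h2⟩
  | false =>
    refine ⟨fun c hc => ?_, fun c hc => ?_⟩
    · rcases List.mem_cons.mp hc with rfl | hc
      · exact ha
      · exact h1 c hc
    · simp only [cond_false, Nat.testBit_or, Bool.or_eq_true, Nat.one_shiftLeft, Nat.testBit_two_pow,
        decide_eq_true_eq] at hc
      rcases hc with hc | hc
      · exact h2 c hc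
      · rw [← hc]
        exact ha

theorem dfs_inv {Q : ℕ → Prop} {f g : ℕ → ℕ} (hf : ∀ c, Q c → Q (f c)) (hg : ∀ c, Q c → Q (g c)) :
    ∀ (n : ℕ) (l : List ℕ) (m : ℕ), (∀ c ∈ l, Q c) → (∀ c, Nat.testBit m c = true → Q c) →
      ∀ c, Nat.testBit (dfs f g n l m) c = true → Q c := by
  intro n
  induction n with
  | zero => intro l m _ hm c hc; exact hm c hc
  | succ n ih =>
    intro l m hl hm c hc
    cases l with
    | nil => exact hm c hc
    | cons a l =>
      have ha := hl a (by simp)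
      obtain ⟨h1, h2⟩ := push_inv (hf a ha) (s := (l, m)) (fun c hc => hl c (by simp [hc])) hm
      obtain ⟨h3, h4⟩ := push_inv (hg a ha) h1 h2
      exact ih _ _ h3 h4 c hc

/-- the first basis vector -/
def e0 : Fin 4 → ZMod 5 := dec 1

theorem mA_e0 : mA *ᵥ e0 = e0 := by decide +kernel

theorem mA_ne : mA ≠ 1 := by decide +kernel

theorem gA_pow_inj {k l : ℕ} (hk : k < 5) (hl : l < 5) (h : gA ^ k = gA ^ l) : k = l := by
  have h5 : orderOf gA = 5 := by
    have h0 : Fact (Nat.Prime 5) := ⟨by norm_num⟩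
    refine orderOf_eq_prime (Units.ext ?_) ?_
    · rw [Units.val_pow_eq_pow_val]
      exact mA5
    · intro h
      have h1 : mA = 1 := congrArg Units.val h
      exact mA_ne h1
  exact pow_injOn_Iio_orderOf (by rw [h5]; exact hk) (by rw [h5]; exact hl) h

/-- lower bound by an orbit -/
theorem card_le {L : Subgroup M5ˣ} (hA : gA ∈ L) (S : Finset ℕ) (hS : ∀ c ∈ S, c < 625)
    (h : ∀ c ∈ S, ∃ g ∈ L, (g : M5) *ᵥ e0 = dec c) : S.card * 5 ≤ Nat.card L := by
  choose! g hg hge using h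
  have hAe : ∀ k : ℕ, ((gA ^ k : M5ˣ) : M5) *ᵥ e0 = e0 := by
    intro k
    induction k with
    | zero => simp
    | succ k ih =>
      rw [pow_succ', Units.val_mul, ← Matrix.mulVec_mulVec, ih]
      exact mA_e0
  have h1 : Nat.card (S × Fin 5) = S.card * 5 := by
    rw [Nat.card_prod, Nat.card_eq_fintype_card, Nat.card_eq_fintype_card, Fintype.card_coe, Fintype.card_fin]
  rw [← h1]
  refine Nat.card_le_card_of_injective
    (fun p : S × Fin 5 => (⟨g p.1 * gA ^ (p.2 : ℕ), L.mul_mem (hg p.1 p.1.2) (L.pow_mem hA _)⟩ : L)) ?_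
  rintro ⟨⟨c, hc⟩, k⟩ ⟨⟨d, hd⟩, l⟩ hp
  have h2 : g c * gA ^ (k : ℕ) = g d * gA ^ (l : ℕ) := congrArg Subtype.val hp
  have h3 : dec c = dec d := by
    have h4 := congrArg (fun u : M5ˣ => (u : M5) *ᵥ e0) h2
    simp only [Units.val_mul] at h4
    rw [← Matrix.mulVec_mulVec, ← Matrix.mulVec_mulVec, hAe, hAe, hge c hc, hge d hd] at h4
    exact h4
  have h5 : c = d := dec_inj (hS c hc) (hS d hd) h3
  subst h5
  have h6 := gA_pow_inj k.2 l.2 (mul_left_cancel h2)
  have h7 : k = l := Fin.ext h6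
  subst h7
  rfl

/-- the code action of `mA` -/
def sA : ℕ → ℕ := stp 1 2 3 1 0 1 3 4 0 0 1 1 0 0 0 1
def sS : ℕ → ℕ := stp 1 0 0 0 1 1 0 0 1 2 1 0 4 2 2 1
def sR : ℕ → ℕ := stp 1 1 0 0 0 1 0 0 2 4 1 3 3 4 0 1
def sC : ℕ → ℕ := stp 1 1 0 0 0 1 0 0 1 2 1 3 4 2 0 1
def sB : ℕ → ℕ := stp 1 0 0 0 1 1 0 0 2 4 1 0 3 4 2 1
def sP : ℕ → ℕ := stp 1 0 3 1 3 1 3 4 0 0 1 0 0 0 1 1

theorem dec_sA (n : ℕ) : dec (sA n) = mA *ᵥ dec n := by
  unfold sA
  rw [dec_stp]
  congr 1
theorem dec_sS (n : ℕ) : dec (sS n) = mS *ᵥ dec n := by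
  unfold sS
  rw [dec_stp]
  congr 1
theorem dec_sR (n : ℕ) : dec (sR n) = mR *ᵥ dec n := by
  unfold sR
  rw [dec_stp]
  congr 1
theorem dec_sC (n : ℕ) : dec (sC n) = mC *ᵥ dec n := by
  unfold sC
  rw [dec_stp]
  congr 1
theorem dec_sB (n : ℕ) : dec (sB n) = mB *ᵥ dec n := by
  unfold sB
  rw [dec_stp]
  congr 1
theorem dec_sP (n : ℕ) : dec (sP n) = mP *ᵥ dec n := by
  unfold sP
  rw [dec_stp]
  congr 1

/-- lower bound from the search -/
theorem card_le_dfs {L : Subgroup M5ˣ} (hA : gA ∈ L) {g : M5ˣ} (hg : g ∈ L) {f : ℕ → ℕ}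
    (hf : ∀ n, dec (f n) = (g : M5) *ᵥ dec n) {n m N : ℕ} (h1 : dfs sA f n [1] 2 = m)
    (h2 : ((Finset.range 625).filter fun c => Nat.testBit m c = true).card = N) : N * 5 ≤ Nat.card L := by
  subst h2
  refine card_le hA _ (fun c hc => Finset.mem_range.mp (Finset.mem_filter.mp hc).1) fun c hc => ?_
  have h3 := (Finset.mem_filter.mp hc).2
  rw [← h1] at h3
  refine dfs_inv (Q := fun c => ∃ g ∈ L, (g : M5) *ᵥ e0 = dec c) ?_ ?_ n [1] 2 ?_ ?_ c h3
  · rintro c ⟨x, hx, hxc⟩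
    refine ⟨gA * x, L.mul_mem hA hx, ?_⟩
    rw [Units.val_mul, ← Matrix.mulVec_mulVec, hxc, dec_sA]
    rfl
  · rintro c ⟨x, hx, hxc⟩
    refine ⟨g * x, L.mul_mem hg hx, ?_⟩
    rw [Units.val_mul, ← Matrix.mulVec_mulVec, hxc, hf]
  · intro c hc
    rw [List.mem_singleton] at hc
    subst hc
    exact ⟨1, L.one_mem, by rw [Units.val_one, Matrix.one_mulVec]; rfl⟩
  · intro c hc
    have h4 : c = 1 := by
      have h5 : (2 : ℕ) = 2 ^ 1 := rfl
      rw [h5, Nat.testBit_two_pow] at hc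
      exact (of_decide_eq_true hc).symm
    subst h4
    exact ⟨1, L.one_mem, by rw [Units.val_one, Matrix.one_mulVec]; rfl⟩

theorem card_LS : 120 ≤ Nat.card LS :=
  card_le_dfs (N := 24) (f := sS) (n := 625) (Subgroup.subset_closure (by simp))
    (Subgroup.subset_closure (by simp) : gS ∈ LS) dec_sS
    (m := 2125070660744094819062311973503205973118002017914041451075311207683014679619904126768657406400112175634302892406234534655422967881425794481799682162309890998228191939823713152957153310)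
    (by decide +kernel) (by decide +kernel)

theorem card_LR : 160 ≤ Nat.card LR :=
  card_le_dfs (N := 32) (f := sR) (n := 625) (Subgroup.subset_closure (by simp))
    (Subgroup.subset_closure (by simp) : gR ∈ LR) dec_sR
    (m := 8498207885315604039476478292254506214169952270403831909913374899968505684201171638379523055976882780306396502297736351808983320266478015062904577119432380140335889888274008359517028370)
    (by decide +kernel) (by decide +kernel)

theorem card_LC : 720 ≤ Nat.card LC :=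
  card_le_dfs (N := 144) (f := sC) (n := 625) (Subgroup.subset_closure (by simp))
    (Subgroup.subset_closure (by simp) : gC ∈ LC) dec_sC
    (m := 23441144295490027925387077815464299302251982207264747318391037528349463445557117736824431591135972952594344526708664674912931356668797762951253966558704142389687258671464315393018953726)
    (by decide +kernel) (by decide +kernel)

theorem card_LB : 1920 ≤ Nat.card LB :=
  card_le_dfs (N := 384) (f := sB) (n := 625) (Subgroup.subset_closure (by simp))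
    (Subgroup.subset_closure (by simp) : gB ∈ LB) dec_sB
    (m := 54966367021200435681728541697880230836486898283375476875972283774720794254687331047677591544093477596438237577925794480617384146412388069847749948636876698626313033818793381012306550325246)
    (by decide +kernel) (by decide +kernel)

theorem card_LP : 120 ≤ Nat.card LP :=
  card_le_dfs (N := 24) (f := sP) (n := 625) (Subgroup.subset_closure (by simp))
    (Subgroup.subset_closure (by simp) : gP ∈ LP) dec_sP (m := 33554430)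
    (by decide +kernel) (by decide +kernel)

/-! ### words -/

theorem neg_LS : -1 ∈ LS := by
  have hA : gA ∈ LS := Subgroup.subset_closure (by simp)
  have hB : gS ∈ LS := Subgroup.subset_closure (by simp)
  have h : (-1 : M5ˣ) = gA * gS ^ 2 * gA * gS ^ 2 := by
    refine Units.ext ?_
    show (-1 : M5) = mA * mS ^ 2 * mA * mS ^ 2
    decide +kernel
  rw [h]
  exact LS.mul_mem (LS.mul_mem (LS.mul_mem hA (LS.pow_mem hB 2)) hA) (LS.pow_mem hB 2)

theorem neg_LR : -1 ∈ LR := by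
  have hA : gA ∈ LR := Subgroup.subset_closure (by simp)
  have hB : gR ∈ LR := Subgroup.subset_closure (by simp)
  have h : (-1 : M5ˣ) = gA * gR ^ 3 * gA * gR ^ 3 := by
    refine Units.ext ?_
    show (-1 : M5) = mA * mR ^ 3 * mA * mR ^ 3
    decide +kernel
  rw [h]
  exact LR.mul_mem (LR.mul_mem (LR.mul_mem hA (LR.pow_mem hB 3)) hA) (LR.pow_mem hB 3)

theorem neg_LC : -1 ∈ LC := by
  have hA : gA ∈ LC := Subgroup.subset_closure (by simp)
  have hB : gC ∈ LC := Subgroup.subset_closure (by simp)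
  have h : (-1 : M5ˣ) = (gA * gC ^ 2) ^ 3 := by
    refine Units.ext ?_
    show (-1 : M5) = (mA * mC ^ 2) ^ 3
    decide +kernel
  rw [h]
  exact LC.pow_mem (LC.mul_mem hA (LC.pow_mem hB 2)) 3

theorem neg_LB : -1 ∈ LB := by
  have hA : gA ∈ LB := Subgroup.subset_closure (by simp)
  have hB : gB ∈ LB := Subgroup.subset_closure (by simp)
  have h : (-1 : M5ˣ) = (gA * gB * (gA * gB ^ 3)) ^ 2 := by
    refine Units.ext ?_
    show (-1 : M5) = (mA * mB * (mA * mB ^ 3)) ^ 2
    decide +kernel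
  rw [h]
  exact LB.pow_mem (LB.mul_mem (LB.mul_mem hA hB) (LB.mul_mem hA (LB.pow_mem hB 3))) 2

theorem neg_LP : -1 ∈ LP := by
  have hA : gA ∈ LP := Subgroup.subset_closure (by simp)
  have hB : gP ∈ LP := Subgroup.subset_closure (by simp)
  have h : (-1 : M5ˣ) = (gA * gP ^ 3) ^ 2 := by
    refine Units.ext ?_
    show (-1 : M5) = (mA * mP ^ 3) ^ 2
    decide +kernel
  rw [h]
  exact LP.pow_mem (LP.mul_mem hA (LP.pow_mem hB 3)) 2

theorem h1_LS : gh1 ∈ LS := by
  have hA : gA ∈ LS := Subgroup.subset_closure (by simp)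
  have hB : gS ∈ LS := Subgroup.subset_closure (by simp)
  have h : gh1 = gA * gS ^ 4 * (gA ^ 2 * gS ^ 2) := by
    refine Units.ext ?_
    show mh1 = mA * mS ^ 4 * (mA ^ 2 * mS ^ 2)
    decide +kernel
  rw [h]
  exact LS.mul_mem (LS.mul_mem hA (LS.pow_mem hB 4)) (LS.mul_mem (LS.pow_mem hA 2) (LS.pow_mem hB 2))

theorem h1_LC : gh1 ∈ LC := by
  have hA : gA ∈ LC := Subgroup.subset_closure (by simp)
  have hB : gC ∈ LC := Subgroup.subset_closure (by simp)
  have h : gh1 = gA * gC ^ 2 * (gA ^ 2 * gC) * (gA ^ 3 * gC ^ 2) := by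
    refine Units.ext ?_
    show mh1 = mA * mC ^ 2 * (mA ^ 2 * mC) * (mA ^ 3 * mC ^ 2)
    decide +kernel
  rw [h]
  exact LC.mul_mem (LC.mul_mem (LC.mul_mem hA (LC.pow_mem hB 2)) (LC.mul_mem (LC.pow_mem hA 2) hB))
    (LC.mul_mem (LC.pow_mem hA 3) (LC.pow_mem hB 2))

theorem h1_LB : gh1 ∈ LB := by
  have hA : gA ∈ LB := Subgroup.subset_closure (by simp)
  have hB : gB ∈ LB := Subgroup.subset_closure (by simp)
  have h : gh1 = gA * gB * (gA * gB ^ 2) * (gA ^ 3 * gB ^ 2) * (gA ^ 3 * gB ^ 4) := by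
    refine Units.ext ?_
    show mh1 = mA * mB * (mA * mB ^ 2) * (mA ^ 3 * mB ^ 2) * (mA ^ 3 * mB ^ 4)
    decide +kernel
  rw [h]
  exact LB.mul_mem (LB.mul_mem (LB.mul_mem (LB.mul_mem hA hB) (LB.mul_mem hA (LB.pow_mem hB 2)))
    (LB.mul_mem (LB.pow_mem hA 3) (LB.pow_mem hB 2))) (LB.mul_mem (LB.pow_mem hA 3) (LB.pow_mem hB 4))

/-- the shape of the elements of `LP` -/
def Sh (g : M5) : Prop := g 2 0 = 0 ∧ g 3 0 = 0 ∧ g 2 1 = 0 ∧ g 3 1 = 0

theorem Sh.mul {g h : M5} (hg : Sh g) (hh : Sh h) : Sh (g * h) := by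
  obtain ⟨a, b, c, d⟩ := hg
  obtain ⟨a', b', c', d'⟩ := hh
  unfold Sh
  simp only [Matrix.mul_apply, Fin.sum_univ_four, a, b, c, d, a', b', c', d']
  simp

theorem Sh.pow {g : M5} (hg : Sh g) (n : ℕ) : Sh (g ^ n) := by
  induction n with
  | zero =>
    rw [pow_zero]
    unfold Sh
    decide +kernel
  | succ n ih =>
    rw [pow_succ]
    exact ih.mul hg

theorem sh_LP {g : M5ˣ} (hg : g ∈ LP) : Sh (g : M5) := by
  refine Subgroup.closure_induction (p := fun (g : M5ˣ) _ => Sh (g : M5)) ?_ ?_ ?_ ?_ hg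
  · rintro x (rfl | rfl)
    · show Sh mA
      unfold Sh
      decide +kernel
    · show Sh mP
      unfold Sh
      decide +kernel
  · show Sh (1 : M5)
    unfold Sh
    decide +kernel
  · intro x y _ _ hx hy
    rw [Units.val_mul]
    exact hx.mul hy
  · intro x _ hx
    obtain ⟨n, hn, h⟩ := (isOfFinOrder_of_finite x).exists_pow_eq_one
    have h1 : x⁻¹ = x ^ (n - 1) := by
      rw [inv_eq_iff_mul_eq_one, ← pow_succ', Nat.sub_add_cancel hn, h]
    rw [h1, Units.val_pow_eq_pow_val]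
    exact hx.pow _

/-- (M6) -/
theorem stM6 : StM6 :=
  ⟨⟨card_LS, card_LR, card_LC, card_LB, card_LP⟩, ⟨neg_LS, neg_LR, neg_LC, neg_LB, neg_LP⟩, h1_LS, h1_LC, h1_LB,
    fun _ hg => sh_LP hg⟩

end Cfsg.Agent.H473.Q5
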